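import Mathlib

/-!
# Formally étale algebras do not change infinitesimal neighbourhoods
-/

universe u

noncomputable section

namespace GrothLib.EtaleThick

variable (R S : Type u) [CommRing R] [CommRing S] [Algebra R S] (J : Ideal S)

/-- `R ⧸ Iⁿ → S ⧸ Jⁿ` as a homomorphism of algebras. -/
def thickMap (n : ℕ) : (R ⧸ (J.comap (algebraMap R S)) ^ n) →ₐ[R] S ⧸ J ^ n :=
  Ideal.Quotient.liftₐ _ (Algebra.ofId R _) fun x hx =>
    Ideal.Quotient.eq_zero_iff_mem.2 (Ideal.le_comap_pow _ n hx)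

variable {R S J}

theorem exists_thick_inverse [Algebra.FormallyEtale R S]
    (hJ : Function.Surjective (algebraMap R (S ⧸ J))) (n : ℕ) :
    ∃ τ : S →ₐ[R] R ⧸ (J.comap (algebraMap R S)) ^ (n + 1),
      (∀ x ∈ J ^ (n + 1), τ x = 0) ∧ ∀ s, thickMap R S J (n + 1) (τ s) = Ideal.Quotient.mk _ s := by
  let I := J.comap (algebraMap R S)
  let ρ : (R ⧸ I ^ (n + 1)) →ₐ[R] S ⧸ J :=
    Ideal.Quotient.liftₐ _ (Algebra.ofId R _) fun x hx =>
      (Ideal.Quotient.eq_zero_iff_mem (I := J) (a := algebraMap R S x)).2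
        (show x ∈ I from Ideal.pow_le_self n.succ_ne_zero hx)
  have hρ : Function.Surjective ρ := fun y => by
    obtain ⟨r, hr⟩ := hJ y
    exact ⟨Ideal.Quotient.mk _ r, hr⟩
  have hker : RingHom.ker (ρ : R ⧸ I ^ (n + 1) →+* S ⧸ J) ≤ I.map (Ideal.Quotient.mk (I ^ (n + 1))) := by
    intro y hy
    obtain ⟨r, rfl⟩ := Ideal.Quotient.mk_surjective y
    have h : Ideal.Quotient.mk J (algebraMap R S r) = 0 := hy
    exact Ideal.mem_map_of_mem _ (show algebraMap R S r ∈ J from Ideal.Quotient.eq_zero_iff_mem.1 h : r ∈ I)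
  have hnil : IsNilpotent (RingHom.ker (ρ : R ⧸ I ^ (n + 1) →+* S ⧸ J)) := by
    refine ⟨n + 1, eq_bot_iff.2 ?_⟩
    refine (Ideal.pow_right_mono hker _).trans ?_
    rw [← Ideal.map_pow, Ideal.map_quotient_self]
  let τ : S →ₐ[R] R ⧸ I ^ (n + 1) :=
    Algebra.FormallySmooth.liftOfSurjective (Ideal.Quotient.mkₐ R J) ρ hρ hnil
  have hτ : ∀ s, ρ (τ s) = Ideal.Quotient.mk J s := fun s =>
    Algebra.FormallySmooth.liftOfSurjective_apply _ _ hρ hnil s
  refine ⟨τ, fun x hx => ?_, fun s => ?_⟩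
  · have h : J.map τ ≤ I.map (Ideal.Quotient.mk (I ^ (n + 1))) := Ideal.map_le_iff_le_comap.2 fun y hy =>
      hker (show ρ (τ y) = 0 by rw [hτ, Ideal.Quotient.eq_zero_iff_mem]; exact hy)
    have hx' := (Ideal.pow_right_mono h (n + 1)) (Ideal.map_pow τ J (n + 1) ▸ Ideal.mem_map_of_mem τ hx)
    rw [← Ideal.map_pow, Ideal.map_quotient_self] at hx'
    exact hx'
  · let f : S ⧸ J ^ (n + 1) →ₐ[R] S ⧸ J :=
      Ideal.Quotient.liftₐ _ (Ideal.Quotient.mkₐ R J) fun x hx =>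
        Ideal.Quotient.eq_zero_iff_mem.2 (Ideal.pow_le_self n.succ_ne_zero hx)
    have hf : IsNilpotent (RingHom.ker (f : S ⧸ J ^ (n + 1) →+* S ⧸ J)) := by
      refine ⟨n + 1, eq_bot_iff.2 ?_⟩
      have hle : RingHom.ker (f : S ⧸ J ^ (n + 1) →+* S ⧸ J) ≤ J.map (Ideal.Quotient.mk (J ^ (n + 1))) := by
        intro y hy
        obtain ⟨x, rfl⟩ := Ideal.Quotient.mk_surjective y
        exact Ideal.mem_map_of_mem _ (Ideal.Quotient.eq_zero_iff_mem.1
          (show Ideal.Quotient.mk J x = 0 from hy))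
      refine (Ideal.pow_right_mono hle _).trans ?_
      rw [← Ideal.map_pow, Ideal.map_quotient_self]
    refine AlgHom.congr_fun (Algebra.FormallyUnramified.ext' (f : S ⧸ J ^ (n + 1) →+* S ⧸ J) hf
      ((thickMap R S J (n + 1)).comp τ) (Ideal.Quotient.mkₐ R _) fun x => ?_) s
    show f (thickMap R S J (n + 1) (τ x)) = Ideal.Quotient.mk J x
    obtain ⟨r, hr⟩ := Ideal.Quotient.mk_surjective (τ x)
    rw [← hτ x, ← hr]
    rfl

theorem thickMap_bijective [Algebra.FormallyEtale R S]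
    (hJ : Function.Surjective (algebraMap R (S ⧸ J))) (n : ℕ) :
    Function.Bijective (thickMap R S J n) := by
  cases n with
  | zero =>
    haveI : Subsingleton (R ⧸ (J.comap (algebraMap R S)) ^ 0) :=
      Ideal.Quotient.subsingleton_iff.2 (by rw [pow_zero, Ideal.one_eq_top])
    haveI : Subsingleton (S ⧸ J ^ 0) :=
      Ideal.Quotient.subsingleton_iff.2 (by rw [pow_zero, Ideal.one_eq_top])
    exact ⟨fun a b _ => Subsingleton.elim _ _, fun b => ⟨0, Subsingleton.elim _ _⟩⟩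
  | succ n =>
    obtain ⟨τ, hτ, hq⟩ := exists_thick_inverse hJ n
    let τ' : S ⧸ J ^ (n + 1) →ₐ[R] R ⧸ (J.comap (algebraMap R S)) ^ (n + 1) :=
      Ideal.Quotient.liftₐ _ τ hτ
    refine ⟨Function.LeftInverse.injective (g := τ') fun y => ?_, fun y => ?_⟩
    · obtain ⟨r, rfl⟩ := Ideal.Quotient.mk_surjective y
      exact (τ'.comp (thickMap R S J (n + 1))).commutes r
    · obtain ⟨s, rfl⟩ := Ideal.Quotient.mk_surjective y
      exact ⟨τ s, hq s⟩

/-- Membership in `Iⁿ` can be tested in `S`. -/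
theorem mem_pow_iff [Algebra.FormallyEtale R S]
    (hJ : Function.Surjective (algebraMap R (S ⧸ J))) (n : ℕ) (r : R) :
    r ∈ (J.comap (algebraMap R S)) ^ n ↔ algebraMap R S r ∈ J ^ n := by
  refine ⟨fun h => Ideal.le_comap_pow _ n h, fun h => ?_⟩
  rw [← Ideal.Quotient.eq_zero_iff_mem]
  refine (thickMap_bijective hJ n).1 ?_
  rw [map_zero]
  exact Ideal.Quotient.eq_zero_iff_mem.2 h

end GrothLib.EtaleThick
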